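import Mathlib
import Cfsg.Prelude.Def_GeometricClasses

set_option autoImplicit false
set_option linter.unusedVariables false
set_option linter.unusedSectionVars false

/-!
# Project S5981 (designer helper29) : `PSL_n(q)`, `q` odd, and the subgroups of type `O^ε_n(q)` — definitions

`Good n Q r` is the left-hand side of S5981 (every element of order `r` modulo scalars fixes a point), `Bad n Q r` its negation in
the form in which the blocks produce it (a derangement).
-/

namespace Cfsg.Agent.Lib.Helper29.S5981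

open scoped MatrixGroups

variable {F : Type*} [Field F]

/-- every element of `SL_n(F)` of order `r` modulo scalars is `SL_n`-conjugate into the similarity group of `Q` -/
def Good (n : ℕ) (Q : (Fin n → F) → F) (r : ℕ) : Prop :=
  ∀ x ∈ Cfsg.Geo.specialLinear (Fin n) F,
    (∃ z : F, ((x ^ r : GL (Fin n) F) : Matrix (Fin n) (Fin n) F) = z • (1 : Matrix (Fin n) (Fin n) F)) →
    (∀ z : F, (x : Matrix (Fin n) (Fin n) F) ≠ z • (1 : Matrix (Fin n) (Fin n) F)) →
    ∃ g ∈ Cfsg.Geo.specialLinear (Fin n) F, g⁻¹ * x * g ∈ Cfsg.Geo.quadSimilarityGroup Q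

/-- a derangement of order `r` modulo scalars -/
def Bad (n : ℕ) (Q : (Fin n → F) → F) (r : ℕ) : Prop :=
  ∃ x ∈ Cfsg.Geo.specialLinear (Fin n) F,
    (∃ z : F, ((x ^ r : GL (Fin n) F) : Matrix (Fin n) (Fin n) F) = z • (1 : Matrix (Fin n) (Fin n) F)) ∧
    (∀ z : F, (x : Matrix (Fin n) (Fin n) F) ≠ z • (1 : Matrix (Fin n) (Fin n) F)) ∧
    ∀ g ∈ Cfsg.Geo.specialLinear (Fin n) F, g⁻¹ * x * g ∉ Cfsg.Geo.quadSimilarityGroup Q

theorem not_good_of_bad {n : ℕ} {Q : (Fin n → F) → F} {r : ℕ} (h : Bad n Q r) : ¬ Good n Q r := by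
  obtain ⟨x, hx, hz, hns, hno⟩ := h
  intro hg
  obtain ⟨g, hg1, hg2⟩ := hg x hx hz hns
  exact hno g hg1 hg2

end Cfsg.Agent.Lib.Helper29.S5981
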