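import Mathlib
import Cfsg.Agent.Lib.Helper29.S5981.Defs
import Cfsg.Prelude.Def_Classical

set_option autoImplicit false
set_option linter.unusedVariables false
set_option linter.unusedSectionVars false

/-!
# Project S5981, block D : the three "type" predicates (equivalence with a standard form)
-/

namespace Cfsg.Agent.Lib.Helper29.S5981

open scoped MatrixGroups Matrix

variable {F : Type*} [Field F]

/-- `Q` is equivalent to the hyperbolic form of dimension `2m` -/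
def IsPlusType (n m : ℕ) (Q : (Fin n → F) → F) : Prop :=
  ∃ Φ : (Fin m ⊕ Fin m → F) ≃ₗ[F] (Fin n → F), ∀ v, Q (Φ v) = Cfsg.quadFormPlus m F v

/-- `Q` is equivalent to an elliptic form of dimension `2m` -/
def IsMinusType (n m : ℕ) (Q : (Fin n → F) → F) : Prop :=
  ∃ ζ : F, (∀ t : F, t ^ 2 + t + ζ ≠ 0) ∧
    ∃ Φ : ((Fin (m - 1) ⊕ Fin (m - 1)) ⊕ Fin 2 → F) ≃ₗ[F] (Fin n → F),
      ∀ v, Q (Φ v) = Cfsg.quadFormMinus (m - 1) F 1 ζ v

/-- `Q` is equivalent to a scalar multiple of the standard form of dimension `2m + 1` -/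
def IsOddType (n m : ℕ) (Q : (Fin n → F) → F) : Prop :=
  ∃ c : F, c ≠ 0 ∧ ∃ Φ : (Unit ⊕ (Fin m ⊕ Fin m) → F) ≃ₗ[F] (Fin n → F),
    ∀ v, Q (Φ v) = c * Cfsg.quadFormOdd m F v

end Cfsg.Agent.Lib.Helper29.S5981
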