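import Mathlib
import Cfsg.Agent.Lib.Helper29.S5981.Defs

set_option autoImplicit false
set_option linter.unusedVariables false
set_option linter.unusedSectionVars false

/-!
# Project S5981, block C : `DiagBad`
-/

namespace Cfsg.Agent.Lib.Helper29.S5981

open scoped MatrixGroups Matrix

/-- a diagonal derangement candidate -/
def DiagBad (F : Type*) [Field F] (n r : ℕ) : Prop :=
  ∃ d : Fin n → F, (∀ j, d j ≠ 0) ∧ ∏ j, d j = 1 ∧ (∃ z : F, ∀ j, d j ^ r = z) ∧ (∃ j k, d j ≠ d k) ∧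
    ¬ ∃ (c : F) (σ : Equiv.Perm (Fin n)), ∀ j, d j * d (σ j) = c

end Cfsg.Agent.Lib.Helper29.S5981
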